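import Mathlib.LinearAlgebra.Matrix.Determinant.Basic
import Mathlib.Tactic

/-!
# The row `B` of the lower bound `9 < k(B₀)` for `p = 7`

The certificate of helper160: three known rows `(1,0,0)`, `(-1,-1,0)`, `(1,1,1)` of a matrix with
Gram matrix `7 (I + 2 J)`, and three vector relations with pairwise disjoint supports and entries
`0, 1, -1`, one through each of the three rows.  Then the matrix has at least ten rows.
-/

set_option autoImplicit false

namespace Cfsg.Agent.H98.LB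

/-- a Gram determinant of six integer vectors on at most six coordinates is a square -/
theorem gram_sq {ι : Type*} (U : Finset ι) (hU : U.card ≤ 6) (v : Fin 6 → ι → ℤ) :
    ∃ k : ℤ, Matrix.det (Matrix.of fun i j => ∑ x ∈ U, v i x * v j x) = k * k := by
  classical
  obtain ⟨e⟩ := Function.Embedding.nonempty_of_card_le (α := U) (β := Fin 6) (by simpa using hU)
  let M : Matrix (Fin 6) (Fin 6) ℤ := Matrix.of fun r i => Function.extend e (fun x : U => v i x) (fun _ => 0) r
  refine ⟨M.det, ?_⟩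
  have h : (Matrix.of fun i j => ∑ x ∈ U, v i x * v j x) = M.transpose * M := by
    ext i j
    rw [Matrix.mul_apply, Matrix.of_apply, ← Finset.sum_coe_sort U (fun x => v i x * v j x)]
    refine Fintype.sum_of_injective e e.injective _ _ (fun r hr => ?_) (fun x => ?_)
    · have h0 : ¬ ∃ a, e a = r := hr
      simp only [M, Matrix.transpose_apply, Matrix.of_apply, Function.extend_apply' _ _ _ h0, mul_zero]
    · simp only [M, Matrix.transpose_apply, Matrix.of_apply, e.injective.extend_apply]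
  rw [h, Matrix.det_mul, Matrix.det_transpose]

/-- the determinant of the certificate -/
theorem det_b (x y z : ℤ) :
    Matrix.det !![x, 0, 0, -1, 0, 0; 0, y, 0, 1, 1, 0; 0, 0, z, -1, -1, -1; -1, 1, -1, 18, 12, 13;
      0, 1, -1, 12, 19, 13; 0, 0, -1, 13, 13, 20] =
      -1 + 20 * z + 13 * y - 211 * y * z + 13 * x - 260 * x * z - 120 * x * y + 1763 * x * y * z := by
  simp [Matrix.det_succ_row_zero, Fin.sum_univ_succ, Fin.succAbove]
  ring

/-- none of the twenty values is a square -/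
theorem no_sq : ∀ k ∈ Finset.range 109, ∀ x ∈ Finset.range 7, ∀ y ∈ Finset.range 7, ∀ z ∈ Finset.range 7,
    1 ≤ x → 1 ≤ y → 1 ≤ z → x + y + z ≤ 6 →
    ((k : ℤ) * k ≠ -1 + 20 * z + 13 * y - 211 * y * z + 13 * x - 260 * x * z - 120 * x * y + 1763 * x * y * z) := by
  decide +kernel

/-- no square, for integers -/
theorem no_sq' {k x y z : ℤ} (hx : 1 ≤ x) (hy : 1 ≤ y) (hz : 1 ≤ z) (hs : x + y + z ≤ 6)
    (h : -1 + 20 * z + 13 * y - 211 * y * z + 13 * x - 260 * x * z - 120 * x * y + 1763 * x * y * z = k * k) :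
    False := by
  obtain ⟨x', rfl⟩ := Int.eq_ofNat_of_zero_le (by omega : 0 ≤ x)
  obtain ⟨y', rfl⟩ := Int.eq_ofNat_of_zero_le (by omega : 0 ≤ y)
  obtain ⟨z', rfl⟩ := Int.eq_ofNat_of_zero_le (by omega : 0 ≤ z)
  have hk : k * k ≤ 11831 := by
    rw [← h]
    have hx4 : x' ≤ 4 := by omega
    have hy4 : y' ≤ 4 := by omega
    have hz4 : z' ≤ 4 := by omega
    have hs' : x' + y' + z' ≤ 6 := by omega
    have hx1 : 1 ≤ x' := by omega
    have hy1 : 1 ≤ y' := by omega
    have hz1 : 1 ≤ z' := by omega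
    clear h hs hx hy hz
    interval_cases x' <;> interval_cases y' <;> interval_cases z' <;> first | (exfalso; omega) | norm_num
  have hk' : k.natAbs < 109 := by
    by_contra hc
    have h1 : (109 : ℤ) ≤ |k| := by
      rw [← Int.natCast_natAbs]
      exact_mod_cast not_lt.1 hc
    nlinarith [abs_mul_abs_self k, abs_nonneg k]
  refine no_sq k.natAbs (Finset.mem_range.2 hk') x' (Finset.mem_range.2 (by omega)) y' (Finset.mem_range.2 (by omega))
    z' (Finset.mem_range.2 (by omega)) (by omega) (by omega) (by omega) (by omega) ?_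
  rw [h, Int.natCast_natAbs, abs_mul_abs_self]

theorem pt_le {a b c : ℤ} (ha : a = 0 ∨ a = 1 ∨ a = -1) (hb : b = 0 ∨ b = 1 ∨ b = -1) (hc : c = 0 ∨ c = 1 ∨ c = -1)
    (e1 : a = 0 ∨ b = 0) (e2 : a = 0 ∨ c = 0) (e3 : b = 0 ∨ c = 0) : a * a + b * b + c * c ≤ 1 := by
  rcases ha with rfl | rfl | rfl <;> rcases hb with rfl | rfl | rfl <;> rcases hc with rfl | rfl | rfl <;>
    omega

/-- **row `B`, `p = 7`** -/
theorem b_eleven {ι : Type*} [Fintype ι] (q : ι → Fin 3 → ℤ)
    (hG : ∀ i j : Fin 3, (∑ x, q x i * q x j) = 7 * ((if i = j then 1 else 0) + 2))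
    {x1 x2 x3 : ι} (h1 : q x1 = ![1, 0, 0]) (h2 : q x2 = ![-1, -1, 0]) (h3 : q x3 = ![1, 1, 1])
    (a : Fin 3 → ι → ℤ) (ha : ∀ t x, a t x = 0 ∨ a t x = 1 ∨ a t x = -1)
    (hd : ∀ s t, s ≠ t → ∀ x, a s x = 0 ∨ a t x = 0)
    (hx1 : ∀ t, a t x1 = ![1, 0, 0] t) (hx2 : ∀ t, a t x2 = ![0, 1, 0] t) (hx3 : ∀ t, a t x3 = ![0, 0, 1] t)
    (hrel : ∀ t j, (∑ x, a t x * q x j) = 0) : 10 ≤ Fintype.card ι := by
  classical
  by_contra hcon
  have e12 : x1 ≠ x2 := by
    rintro rfl
    have := congrFun (h1.symm.trans h2) 1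
    revert this
    decide
  have e13 : x1 ≠ x3 := by
    rintro rfl
    have := congrFun (h1.symm.trans h3) 1
    revert this
    decide
  have e23 : x2 ≠ x3 := by
    rintro rfl
    have := congrFun (h2.symm.trans h3) 1
    revert this
    decide
  have hsub : ∀ f : ι → ℤ, (∑ x ∈ ({x1, x2, x3} : Finset ι)ᶜ, f x) = (∑ x, f x) - (f x1 + (f x2 + f x3)) := by
    intro f
    rw [← Finset.sum_compl_add_sum ({x1, x2, x3} : Finset ι) f, Finset.sum_insert (by simp [e12, e13]),
      Finset.sum_insert (by simp [e23]), Finset.sum_singleton]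
    ring
  have hcard : (({x1, x2, x3} : Finset ι)ᶜ).card ≤ 6 := by
    have h5 : ({x1, x2, x3} : Finset ι).card = 3 := by
      rw [Finset.card_insert_of_notMem (by simp [e12, e13]), Finset.card_insert_of_notMem (by simp [e23]),
        Finset.card_singleton]
    rw [Finset.card_compl, h5]
    omega
  generalize hU : (({x1, x2, x3} : Finset ι)ᶜ) = U at hsub hcard
  -- the Gram matrix on the remaining rows
  have hqq : ∀ i j : Fin 3, (∑ x ∈ U, q x i * q x j) = !![18, 12, 13; 12, 19, 13; 13, 13, 20] i j := by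
    intro i j
    rw [hsub, hG, h1, h2, h3]
    fin_cases i <;> fin_cases j <;> simp
  have haq : ∀ t j : Fin 3, (∑ x ∈ U, a t x * q x j) = !![-1, 0, 0; 1, 1, 0; -1, -1, -1] t j := by
    intro t j
    rw [hsub, hrel, h1, h2, h3, hx1, hx2, hx3]
    fin_cases t <;> fin_cases j <;> simp
  have haa : ∀ s t : Fin 3, s ≠ t → (∑ x ∈ U, a s x * a t x) = 0 := by
    intro s t hst
    refine Finset.sum_eq_zero fun x _ => ?_
    rcases hd s t hst x with h | h <;> rw [h] <;> ring
  have hle : (∑ x ∈ U, a 0 x * a 0 x) + (∑ x ∈ U, a 1 x * a 1 x) + (∑ x ∈ U, a 2 x * a 2 x) ≤ 6 := by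
    rw [← Finset.sum_add_distrib, ← Finset.sum_add_distrib]
    refine le_trans (Finset.sum_le_card_nsmul U _ 1 fun x _ => ?_) (by rw [nsmul_eq_mul, mul_one]; exact_mod_cast hcard)
    have e1 := hd 0 1 (by decide) x
    have e2 := hd 0 2 (by decide) x
    have e3 := hd 1 2 (by decide) x
    exact pt_le (ha 0 x) (ha 1 x) (ha 2 x) e1 e2 e3
  have hge : ∀ t : Fin 3, 1 ≤ ∑ x ∈ U, a t x * a t x := by
    intro t
    have h0 : 0 ≤ ∑ x ∈ U, a t x * a t x := Finset.sum_nonneg fun x _ => mul_self_nonneg _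
    rcases h0.eq_or_lt with h | h
    · exfalso
      have h4 : ∀ x ∈ U, a t x * a t x = 0 := (Finset.sum_eq_zero_iff_of_nonneg fun x _ => mul_self_nonneg _).1 h.symm
      have h5 : (∑ x ∈ U, a t x * q x 0) = 0 :=
        Finset.sum_eq_zero fun x hx => by rw [mul_self_eq_zero.1 (h4 x hx), zero_mul]
      rw [haq] at h5
      fin_cases t <;> simp at h5
    · omega
  obtain ⟨k, hk⟩ := gram_sq U hcard ![a 0, a 1, a 2, fun x => q x 0, fun x => q x 1, fun x => q x 2]
  have hM : (Matrix.of fun i j : Fin 6 => ∑ x ∈ U, ![a 0, a 1, a 2, fun x => q x 0, fun x => q x 1, fun x => q x 2] i x *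
      ![a 0, a 1, a 2, fun x => q x 0, fun x => q x 1, fun x => q x 2] j x) =
      !![∑ x ∈ U, a 0 x * a 0 x, 0, 0, -1, 0, 0; 0, ∑ x ∈ U, a 1 x * a 1 x, 0, 1, 1, 0;
        0, 0, ∑ x ∈ U, a 2 x * a 2 x, -1, -1, -1; -1, 1, -1, 18, 12, 13; 0, 1, -1, 12, 19, 13; 0, 0, -1, 13, 13, 20] := by
    have hqa : ∀ j t : Fin 3, (∑ x ∈ U, q x j * a t x) = !![-1, 0, 0; 1, 1, 0; -1, -1, -1] t j := by
      intro j t
      rw [← haq]
      exact Finset.sum_congr rfl fun x _ => mul_comm _ _
    ext i j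
    fin_cases i <;> fin_cases j <;> simp [hqq, haq, haa, hqa]
  rw [hM, det_b] at hk
  exact no_sq' (hge 0) (hge 1) (hge 2) hle hk

end Cfsg.Agent.H98.LB
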