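import Mathlib

/-!
# Enumeration of integral rows with a given Gram matrix (helper98, for S4879)

Rows are integer vectors of length three; `search` runs through all lists of rows (up to order and signs) with a given
Gram matrix, in the order of decreasing norm.
-/

set_option autoImplicit false

namespace Cfsg.Agent.H98.LB

/-- a row -/
abbrev V3 := ℤ × ℤ × ℤ

/-- the norm -/
def nrm (q : V3) : ℤ := q.1 * q.1 + q.2.1 * q.2.1 + q.2.2 * q.2.2

/-- symmetric matrices: entries `11, 12, 13, 22, 23, 33` -/
@[ext] structure S3 where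
  a : ℤ
  b : ℤ
  c : ℤ
  d : ℤ
  e : ℤ
  f : ℤ
deriving DecidableEq

/-- `R - q qᵀ` -/
def S3.sub (R : S3) (q : V3) : S3 :=
  ⟨R.a - q.1 * q.1, R.b - q.1 * q.2.1, R.c - q.1 * q.2.2, R.d - q.2.1 * q.2.1, R.e - q.2.1 * q.2.2, R.f - q.2.2 * q.2.2⟩

/-- the zero matrix -/
def S3.zero : S3 := ⟨0, 0, 0, 0, 0, 0⟩

/-- necessary conditions for a Gram matrix -/
def S3.ok (R : S3) : Bool :=
  decide (0 ≤ R.a) && (decide (0 ≤ R.d) && (decide (0 ≤ R.f) && (decide (R.b * R.b ≤ R.a * R.d) &&
    (decide (R.c * R.c ≤ R.a * R.f) && decide (R.e * R.e ≤ R.d * R.f)))))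

/-- the Gram matrix of a list of rows -/
def gram : List V3 → S3
  | [] => S3.zero
  | q :: l => ⟨(gram l).a + q.1 * q.1, (gram l).b + q.1 * q.2.1, (gram l).c + q.1 * q.2.2, (gram l).d + q.2.1 * q.2.1,
      (gram l).e + q.2.1 * q.2.2, (gram l).f + q.2.2 * q.2.2⟩

theorem gram_cons (q : V3) (l : List V3) : (gram (q :: l)).sub q = gram l := by
  simp only [gram, S3.sub]
  ext <;> simp

theorem gram_perm {l l' : List V3} (h : l.Perm l') : gram l = gram l' := by
  induction h with
  | nil => rfl
  | cons x _ ih => simp only [gram, ih]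
  | swap x y l =>
    simp only [gram]
    ext <;> simp only <;> ring
  | trans _ _ h1 h2 => exact h1.trans h2

/-- sum of the products of two coordinates -/
def dots (u v : V3 → ℤ) (l : List V3) : ℤ := (l.map fun q => u q * v q).sum

theorem cs (u v : V3 → ℤ) (l : List V3) : dots u v l * dots u v l ≤ dots u u l * dots v v l := by
  -- Cauchy–Schwarz on lists
  have key : ∀ s t : ℤ, 0 ≤ s * s * dots u u l + 2 * (s * t) * dots u v l + t * t * dots v v l := by
    intro s t
    induction l with
    | nil => simp [dots]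
    | cons q l ih =>
      simp only [dots, List.map_cons, List.sum_cons] at ih ⊢
      have h := mul_self_nonneg (s * u q + t * v q)
      nlinarith
  have h1 := key (dots u v l) (-dots u u l)
  have h2 := key (dots v v l) (-dots u v l)
  have hu : 0 ≤ dots u u l := by
    have := key 1 0
    simpa using this
  have hv : 0 ≤ dots v v l := by
    have := key 0 1
    simpa using this
  by_cases h0 : dots u u l = 0
  · -- then the mixed sum vanishes
    have h3 := key (dots v v l + 1) (-dots u v l)
    rw [h0] at h3 ⊢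
    nlinarith [mul_self_nonneg (dots u v l)]
  · have hpos : 0 < dots u u l := lt_of_le_of_ne hu (Ne.symm h0)
    have h4 : 0 ≤ dots u u l * (dots u u l * dots v v l - dots u v l * dots u v l) := by nlinarith
    have h5 := nonneg_of_mul_nonneg_right h4 hpos
    linarith

theorem gram_dots (l : List V3) : gram l = ⟨dots (fun q => q.1) (fun q => q.1) l, dots (fun q => q.1) (fun q => q.2.1) l,
    dots (fun q => q.1) (fun q => q.2.2) l, dots (fun q => q.2.1) (fun q => q.2.1) l,
    dots (fun q => q.2.1) (fun q => q.2.2) l, dots (fun q => q.2.2) (fun q => q.2.2) l⟩ := by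
  induction l with
  | nil => rfl
  | cons q l ih =>
    simp only [gram, ih, dots, List.map_cons, List.sum_cons]
    ext <;> simp only <;> ring

theorem dots_nonneg (u : V3 → ℤ) (l : List V3) : 0 ≤ dots u u l := by
  unfold dots
  apply List.sum_nonneg
  intro x hx
  obtain ⟨q, -, rfl⟩ := List.mem_map.1 hx
  exact mul_self_nonneg _

theorem ok_gram (l : List V3) : (gram l).ok = true := by
  rw [gram_dots]
  simp only [S3.ok, Bool.and_eq_true, decide_eq_true_eq]
  exact ⟨dots_nonneg _ l, dots_nonneg _ l, dots_nonneg _ l, cs _ _ l, cs _ _ l, cs _ _ l⟩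

/-- `-q` -/
def ng (q : V3) : V3 := (-q.1, -q.2.1, -q.2.2)

theorem sub_ng (R : S3) (q : V3) : R.sub (ng q) = R.sub q := by
  simp only [S3.sub, ng]
  ext <;> simp

theorem nrm_ng (q : V3) : nrm (ng q) = nrm q := by simp [nrm, ng]

/-- the search: `C` a list of candidates grouped by norm, `leaf` the final test -/
def search (C : List (ℤ × List V3)) (leaf : List V3 → Bool) : ℕ → ℤ → S3 → List V3 → Bool
  | 0, _, R, acc => !(decide (R = S3.zero)) || leaf acc
  | n + 1, cap, R, acc => C.all fun p =>
      decide (cap < p.1) || (decide (((n : ℤ) + 1) * p.1 < R.a + R.d + R.f) || p.2.all fun q =>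
        (!(R.sub q).ok || search C leaf n p.1 (R.sub q) (q :: acc)))

theorem tr_gram (l : List V3) : (gram l).a + (gram l).d + (gram l).f = (l.map nrm).sum := by
  induction l with
  | nil => rfl
  | cons q l ih =>
    rw [List.map_cons, List.sum_cons, ← ih]
    simp only [gram, nrm]
    ring

theorem exists_max (l : List V3) (hl : l ≠ []) : ∃ q ∈ l, ∀ x ∈ l, nrm x ≤ nrm q := by
  induction l with
  | nil => exact absurd rfl hl
  | cons a l ih =>
    by_cases h : l = []
    · subst h
      exact ⟨a, by simp, by simp⟩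
    · obtain ⟨q, hq, h1⟩ := ih h
      rcases le_total (nrm a) (nrm q) with h2 | h2
      · exact ⟨q, List.mem_cons_of_mem _ hq, fun x hx => by
          rcases List.mem_cons.1 hx with rfl | hx
          · exact h2
          · exact h1 x hx⟩
      · exact ⟨a, List.mem_cons_self, fun x hx => by
          rcases List.mem_cons.1 hx with rfl | hx
          · exact le_rfl
          · exact (h1 x hx).trans h2⟩

theorem sub_le (R : S3) (q : V3) : (R.sub q).a ≤ R.a ∧ (R.sub q).d ≤ R.d ∧ (R.sub q).f ≤ R.f := by
  simp only [S3.sub]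
  exact ⟨by linarith [mul_self_nonneg q.1], by linarith [mul_self_nonneg q.2.1], by linarith [mul_self_nonneg q.2.2]⟩

/-- **soundness** -/
theorem search_sound {C : List (ℤ × List V3)} {leaf : List V3 → Bool} {P : List V3 → Prop} {m : ℤ}
    (hC : ∀ q : V3, q.1 * q.1 ≤ m → q.2.1 * q.2.1 ≤ m → q.2.2 * q.2.2 ≤ m →
      ∃ g ∈ C, g.1 = nrm q ∧ (q ∈ g.2 ∨ ng q ∈ g.2))
    (hp : ∀ l l' : List V3, l.Perm l' → P l → P l') (hn : ∀ (q : V3) (l : List V3), P (q :: l) → P (ng q :: l))
    (hleaf : ∀ l, leaf l = true → ¬ P l) (n : ℕ) : ∀ (cap : ℤ) (R : S3) (acc rows : List V3),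
      R.a ≤ m → R.d ≤ m → R.f ≤ m →
      search C leaf n cap R acc = true → rows.length = n → (∀ q ∈ rows, nrm q ≤ cap) → gram rows = R →
      ¬ P (rows ++ acc) := by
  induction n with
  | zero =>
    intro cap R acc rows _ _ _ h hl _ hg hP
    obtain rfl : rows = [] := List.length_eq_zero_iff.1 hl
    rw [search, ← hg] at h
    simp only [gram, decide_true, Bool.not_true, Bool.false_or] at h
    exact hleaf _ h hP
  | succ n ih =>
    intro cap R acc rows hRa hRd hRf h hl hcap hg hP
    have hne : rows ≠ [] := by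
      rintro rfl
      simp at hl
    obtain ⟨q, hq, hmax⟩ := exists_max rows hne
    obtain ⟨rest, hperm⟩ : ∃ rest, rows.Perm (q :: rest) := ⟨rows.erase q, List.perm_cons_erase hq⟩
    have hlr : rest.length = n := by
      have := hperm.length_eq
      rw [hl, List.length_cons] at this
      omega
    have hgr : R.sub q = gram rest := by
      rw [← hg, gram_perm hperm, gram_cons]
    have htr : R.a + R.d + R.f ≤ ((n : ℤ) + 1) * nrm q := by
      rw [← hg, tr_gram]
      have h1 : (rows.map nrm).sum ≤ (rows.map nrm).length • nrm q := by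
        apply List.sum_le_card_nsmul
        intro x hx
        obtain ⟨y, hy, rfl⟩ := List.mem_map.1 hx
        exact hmax y hy
      rw [List.length_map, hl, nsmul_eq_mul] at h1
      push_cast at h1
      exact h1
    have hmr : ∀ x ∈ rest, nrm x ≤ nrm q := fun x hx => hmax x (hperm.symm.subset (List.mem_cons_of_mem _ hx))
    have hb : q.1 * q.1 ≤ m ∧ q.2.1 * q.2.1 ≤ m ∧ q.2.2 * q.2.2 ≤ m := by
      have h1 := ok_gram rest
      rw [← hgr] at h1
      simp only [S3.ok, Bool.and_eq_true, decide_eq_true_eq] at h1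
      have h2 : 0 ≤ R.a - q.1 * q.1 := h1.1
      have h3 : 0 ≤ R.d - q.2.1 * q.2.1 := h1.2.1
      have h4 : 0 ≤ R.f - q.2.2 * q.2.2 := h1.2.2.1
      exact ⟨by linarith, by linarith, by linarith⟩
    -- the representative
    obtain ⟨g, hg0, hg1, hg2⟩ := hC q hb.1 hb.2.1 hb.2.2
    obtain ⟨q', hq', hq2⟩ : ∃ q', q' ∈ g.2 ∧ (q' = q ∨ q' = ng q) := by
      rcases hg2 with h1 | h1
      · exact ⟨q, h1, Or.inl rfl⟩
      · exact ⟨ng q, h1, Or.inr rfl⟩
    have hsub : R.sub q' = gram rest := by
      rcases hq2 with rfl | rfl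
      · exact hgr
      · rw [sub_ng]; exact hgr
    have h1 := (List.all_eq_true.1 h) _ hg0
    rw [hg1] at h1
    rw [Bool.or_eq_true, Bool.or_eq_true, decide_eq_true_eq, decide_eq_true_eq] at h1
    rcases h1 with h1 | h1 | h1
    · exact absurd h1 (not_lt.2 (hcap q hq))
    · exact absurd h1 (not_lt.2 htr)
    · have h2 := (List.all_eq_true.1 h1) _ hq'
      rw [hsub, ok_gram, Bool.not_true, Bool.false_or] at h2
      have hs := sub_le R q
      rw [hgr] at hs
      refine ih (nrm q) (gram rest) (q' :: acc) rest (hs.1.trans hRa) (hs.2.1.trans hRd) (hs.2.2.trans hRf) h2 hlr hmr rfl ?_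
      have h3 : P (q :: (rest ++ acc)) := hp _ _ (hperm.append_right acc) hP
      have h4 : P (q' :: (rest ++ acc)) := by
        rcases hq2 with h5 | h5
        · rw [h5]; exact h3
        · rw [h5]; exact hn _ _ h3
      exact hp _ _ List.perm_middle.symm h4

/-! ### sign vectors -/

/-- `v` is a combination of the rows with coefficients `0, 1, -1` -/
def reach : List V3 → V3 → Bool
  | [], v => decide (v = (0, 0, 0))
  | q :: l, v => reach l v || (reach l (v.1 - q.1, v.2.1 - q.2.1, v.2.2 - q.2.2) ||
      reach l (v.1 + q.1, v.2.1 + q.2.1, v.2.2 + q.2.2))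

theorem reach_perm {l l' : List V3} (h : l.Perm l') : ∀ v, reach l v = true → reach l' v = true := by
  induction h with
  | nil => exact fun v h => h
  | cons x _ ih =>
    intro v hv
    simp only [reach, Bool.or_eq_true] at hv ⊢
    rcases hv with h | h | h
    · exact Or.inl (ih _ h)
    · exact Or.inr (Or.inl (ih _ h))
    · exact Or.inr (Or.inr (ih _ h))
  | swap x y l =>
    intro v hv
    simp only [reach, Bool.or_eq_true] at hv ⊢
    have e1 : ∀ a b c : ℤ, a - b - c = a - c - b := fun a b c => by ring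
    have e2 : ∀ a b c : ℤ, a - b + c = a + c - b := fun a b c => by ring
    have e3 : ∀ a b c : ℤ, a + b + c = a + c + b := fun a b c => by ring
    rcases hv with (h | h | h) | (h | h | h) | (h | h | h)
    · exact Or.inl (Or.inl h)
    · exact Or.inr (Or.inl (Or.inl h))
    · exact Or.inr (Or.inr (Or.inl h))
    · exact Or.inl (Or.inr (Or.inl h))
    · refine Or.inr (Or.inl (Or.inr (Or.inl ?_)))
      rw [e1 v.1, e1 v.2.1, e1 v.2.2] at h
      exact h
    · refine Or.inr (Or.inr (Or.inr (Or.inl ?_)))
      rw [e2 v.1, e2 v.2.1, e2 v.2.2] at h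
      exact h
    · exact Or.inl (Or.inr (Or.inr h))
    · refine Or.inr (Or.inl (Or.inr (Or.inr ?_)))
      rw [← e2 v.1, ← e2 v.2.1, ← e2 v.2.2] at h
      exact h
    · refine Or.inr (Or.inr (Or.inr (Or.inr ?_)))
      rw [e3 v.1, e3 v.2.1, e3 v.2.2] at h
      exact h
  | trans _ _ h1 h2 => exact fun v hv => h2 v (h1 v hv)

theorem reach_ng (q : V3) (l : List V3) (v : V3) (h : reach (q :: l) v = true) : reach (ng q :: l) v = true := by
  simp only [reach, Bool.or_eq_true, ng, sub_neg_eq_add] at h ⊢
  have e : ∀ a b : ℤ, a + -b = a - b := fun a b => by ring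
  rw [e, e, e]
  rcases h with h | h | h
  · exact Or.inl h
  · exact Or.inr (Or.inr h)
  · exact Or.inr (Or.inl h)

/-- the search for sign vectors -/
theorem search_reach {C : List (ℤ × List V3)} {m : ℤ}
    (hC : ∀ q : V3, q.1 * q.1 ≤ m → q.2.1 * q.2.1 ≤ m → q.2.2 * q.2.2 ≤ m →
      ∃ g ∈ C, g.1 = nrm q ∧ (q ∈ g.2 ∨ ng q ∈ g.2)) (v : V3) {n : ℕ} {cap : ℤ} {R : S3}
    (ha : R.a ≤ m) (hd : R.d ≤ m) (hf : R.f ≤ m) (hcap : R.a + R.d + R.f ≤ cap)
    (h : search C (fun l => !reach l v) n cap R [] = true) {rows : List V3} (hl : rows.length = n)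
    (hg : gram rows = R) : reach rows v = false := by
  have h1 := search_sound (P := fun l => reach l v = true) hC (fun l l' hp => reach_perm hp v)
    (fun q l => reach_ng q l v) (fun l hl hP => by simp [hP] at hl) n cap R [] rows ha hd hf h hl (by
      intro q hq
      refine le_trans ?_ hcap
      rw [← hg, tr_gram]
      refine List.single_le_sum ?_ _ (List.mem_map_of_mem hq)
      intro x hx
      obtain ⟨y, -, rfl⟩ := List.mem_map.1 hx
      unfold nrm
      nlinarith [mul_self_nonneg y.1, mul_self_nonneg y.2.1, mul_self_nonneg y.2.2]) hg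
  rw [List.append_nil] at h1
  simpa using h1

/-! ### finite sets of rows -/

section fin

variable {ι : Type*} (q : ι → Fin 3 → ℤ)

/-- the row of an index -/
def row (x : ι) : V3 := (q x 0, q x 1, q x 2)

theorem gram_row (l : List ι) : gram (l.map (row q)) = ⟨(l.map fun x => q x 0 * q x 0).sum, (l.map fun x => q x 0 * q x 1).sum,
    (l.map fun x => q x 0 * q x 2).sum, (l.map fun x => q x 1 * q x 1).sum, (l.map fun x => q x 1 * q x 2).sum,
    (l.map fun x => q x 2 * q x 2).sum⟩ := by
  induction l with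
  | nil => rfl
  | cons x l ih =>
    simp only [List.map_cons, gram, ih, List.sum_cons, row]
    ext <;> simp only <;> ring

theorem gram_pad (n : ℕ) (l : List V3) : gram (List.replicate n (0, 0, 0) ++ l) = gram l := by
  induction n with
  | zero => rfl
  | succ n ih =>
    rw [List.replicate_succ, List.cons_append, gram, ih]
    ext <;> simp

theorem reach_pad (n : ℕ) (l : List V3) (v : V3) (h : reach l v = true) :
    reach (List.replicate n (0, 0, 0) ++ l) v = true := by
  induction n with
  | zero => exact h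
  | succ n ih =>
    rw [List.replicate_succ, List.cons_append, reach, ih, Bool.true_or]

theorem reach_row (a : ι → ℤ) (l : List ι) (ha : ∀ x ∈ l, a x = 0 ∨ a x = 1 ∨ a x = -1) :
    reach (l.map (row q)) ((l.map fun x => a x * q x 0).sum, (l.map fun x => a x * q x 1).sum,
      (l.map fun x => a x * q x 2).sum) = true := by
  induction l with
  | nil => simp [reach]
  | cons x l ih =>
    have ih := ih fun y hy => ha y (List.mem_cons_of_mem _ hy)
    simp only [List.map_cons, List.sum_cons, reach, Bool.or_eq_true, row]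
    rcases ha x List.mem_cons_self with h | h | h
    · left
      simpa [h] using ih
    · right; left
      simpa [h] using ih
    · right; right
      simpa [h] using ih

/-- **glue** : `K` known rows, the remaining Gram matrix is `R`, the remaining sign sum is `v` -/
theorem glue [DecidableEq ι] {C : List (ℤ × List V3)} {m : ℤ}
    (hC : ∀ q : V3, q.1 * q.1 ≤ m → q.2.1 * q.2.1 ≤ m → q.2.2 * q.2.2 ≤ m →
      ∃ g ∈ C, g.1 = nrm q ∧ (q ∈ g.2 ∨ ng q ∈ g.2)) {v : V3} {n : ℕ} {cap : ℤ} {R : S3}
    (ha : R.a ≤ m) (hd : R.d ≤ m) (hf : R.f ≤ m) (hcap : R.a + R.d + R.f ≤ cap)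
    (h : search C (fun l => !reach l v) n cap R [] = true) {U : Finset ι} (hU : U.card ≤ n)
    (hR : ∀ i j : Fin 3, (∑ x ∈ U, q x i * q x j) = !![R.a, R.b, R.c; R.b, R.d, R.e; R.c, R.e, R.f] i j)
    (a : ι → ℤ) (ha1 : ∀ x ∈ U, a x = 0 ∨ a x = 1 ∨ a x = -1)
    (hv : ∀ j : Fin 3, (∑ x ∈ U, a x * q x j) = ![v.1, v.2.1, v.2.2] j) : False := by
  have hs : ∀ f : ι → ℤ, (U.toList.map f).sum = ∑ x ∈ U, f x := fun f => Finset.sum_map_toList U f
  have hg : gram (U.toList.map (row q)) = R := by
    rw [gram_row, hs, hs, hs, hs, hs, hs, hR, hR, hR, hR, hR, hR]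
    rfl
  have hr := reach_row q a U.toList (fun x hx => ha1 x (Finset.mem_toList.1 hx))
  rw [hs, hs, hs, hv, hv, hv] at hr
  have h1 := search_reach hC v ha hd hf hcap h (rows := List.replicate (n - U.card) (0, 0, 0) ++ U.toList.map (row q))
    (by rw [List.length_append, List.length_replicate, List.length_map, Finset.length_toList]; omega)
    (by rw [gram_pad, hg])
  have hr' : reach (U.toList.map (row q)) v = true := hr
  rw [reach_pad _ _ _ hr'] at h1
  exact absurd h1 (by decide)

end fin

end Cfsg.Agent.H98.LB
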