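import Cfsg.Agent.H98.LB.Enum

/-!
# The rows of the principal 7-block: `c = 3` (helper98, for S4879)

`Q` has the Gram matrix `7 (I + 2 J)`.
* `th_seven` : the row Th.
-/

set_option autoImplicit false

namespace Cfsg.Agent.H98.LB

/-- the rows with entries of absolute value at most four, up to sign -/
def cand4 : List (ℤ × List V3) :=
  [(48, [(4, -4, -4), (4, -4, 4), (4, 4, -4), (4, 4, 4)]),   (41, [(3, -4, -4), (3, -4, 4), (3, 4, -4), (3, 4,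
  4), (4, -4, -3), (4, -4, 3), (4, -3, -4), (4, -3, 4), (4, 3, -4), (4, 3, 4), (4, 4, -3), (4, 4, 3)]),   (36,
  [(2, -4, -4), (2, -4, 4), (2, 4, -4), (2, 4, 4), (4, -4, -2), (4, -4, 2), (4, -2, -4), (4, -2, 4), (4, 2, -4),
  (4, 2, 4), (4, 4, -2), (4, 4, 2)]),   (34, [(3, -4, -3), (3, -4, 3), (3, -3, -4), (3, -3, 4), (3, 3, -4), (3,
  3, 4), (3, 4, -3), (3, 4, 3), (4, -3, -3), (4, -3, 3), (4, 3, -3), (4, 3, 3)]),   (33, [(1, -4, -4), (1, -4,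
  4), (1, 4, -4), (1, 4, 4), (4, -4, -1), (4, -4, 1), (4, -1, -4), (4, -1, 4), (4, 1, -4), (4, 1, 4), (4, 4,
  -1), (4, 4, 1)]),   (32, [(0, 4, -4), (0, 4, 4), (4, -4, 0), (4, 0, -4), (4, 0, 4), (4, 4, 0)]),   (29, [(2,
  -4, -3), (2, -4, 3), (2, -3, -4), (2, -3, 4), (2, 3, -4), (2, 3, 4), (2, 4, -3), (2, 4, 3), (3, -4, -2), (3,
  -4, 2), (3, -2, -4), (3, -2, 4), (3, 2, -4), (3, 2, 4), (3, 4, -2), (3, 4, 2), (4, -3, -2), (4, -3, 2), (4,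
  -2, -3), (4, -2, 3), (4, 2, -3), (4, 2, 3), (4, 3, -2), (4, 3, 2)]),   (27, [(3, -3, -3), (3, -3, 3), (3, 3,
  -3), (3, 3, 3)]),   (26, [(1, -4, -3), (1, -4, 3), (1, -3, -4), (1, -3, 4), (1, 3, -4), (1, 3, 4), (1, 4, -3),
  (1, 4, 3), (3, -4, -1), (3, -4, 1), (3, -1, -4), (3, -1, 4), (3, 1, -4), (3, 1, 4), (3, 4, -1), (3, 4, 1), (4,
  -3, -1), (4, -3, 1), (4, -1, -3), (4, -1, 3), (4, 1, -3), (4, 1, 3), (4, 3, -1), (4, 3, 1)]),   (25, [(0, 3,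
  -4), (0, 3, 4), (0, 4, -3), (0, 4, 3), (3, -4, 0), (3, 0, -4), (3, 0, 4), (3, 4, 0), (4, -3, 0), (4, 0, -3),
  (4, 0, 3), (4, 3, 0)]),   (24, [(2, -4, -2), (2, -4, 2), (2, -2, -4), (2, -2, 4), (2, 2, -4), (2, 2, 4), (2,
  4, -2), (2, 4, 2), (4, -2, -2), (4, -2, 2), (4, 2, -2), (4, 2, 2)]),   (22, [(2, -3, -3), (2, -3, 3), (2, 3,
  -3), (2, 3, 3), (3, -3, -2), (3, -3, 2), (3, -2, -3), (3, -2, 3), (3, 2, -3), (3, 2, 3), (3, 3, -2), (3, 3,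
  2)]),   (21, [(1, -4, -2), (1, -4, 2), (1, -2, -4), (1, -2, 4), (1, 2, -4), (1, 2, 4), (1, 4, -2), (1, 4, 2),
  (2, -4, -1), (2, -4, 1), (2, -1, -4), (2, -1, 4), (2, 1, -4), (2, 1, 4), (2, 4, -1), (2, 4, 1), (4, -2, -1),
  (4, -2, 1), (4, -1, -2), (4, -1, 2), (4, 1, -2), (4, 1, 2), (4, 2, -1), (4, 2, 1)]),   (20, [(0, 2, -4), (0,
  2, 4), (0, 4, -2), (0, 4, 2), (2, -4, 0), (2, 0, -4), (2, 0, 4), (2, 4, 0), (4, -2, 0), (4, 0, -2), (4, 0, 2),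
  (4, 2, 0)]),   (19, [(1, -3, -3), (1, -3, 3), (1, 3, -3), (1, 3, 3), (3, -3, -1), (3, -3, 1), (3, -1, -3), (3,
  -1, 3), (3, 1, -3), (3, 1, 3), (3, 3, -1), (3, 3, 1)]),   (18, [(0, 3, -3), (0, 3, 3), (1, -4, -1), (1, -4,
  1), (1, -1, -4), (1, -1, 4), (1, 1, -4), (1, 1, 4), (1, 4, -1), (1, 4, 1), (3, -3, 0), (3, 0, -3), (3, 0, 3),
  (3, 3, 0), (4, -1, -1), (4, -1, 1), (4, 1, -1), (4, 1, 1)]),   (17, [(0, 1, -4), (0, 1, 4), (0, 4, -1), (0, 4,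
  1), (1, -4, 0), (1, 0, -4), (1, 0, 4), (1, 4, 0), (2, -3, -2), (2, -3, 2), (2, -2, -3), (2, -2, 3), (2, 2,
  -3), (2, 2, 3), (2, 3, -2), (2, 3, 2), (3, -2, -2), (3, -2, 2), (3, 2, -2), (3, 2, 2), (4, -1, 0), (4, 0, -1),
  (4, 0, 1), (4, 1, 0)]),   (16, [(0, 0, 4), (0, 4, 0), (4, 0, 0)]),   (14, [(1, -3, -2), (1, -3, 2), (1, -2,
  -3), (1, -2, 3), (1, 2, -3), (1, 2, 3), (1, 3, -2), (1, 3, 2), (2, -3, -1), (2, -3, 1), (2, -1, -3), (2, -1,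
  3), (2, 1, -3), (2, 1, 3), (2, 3, -1), (2, 3, 1), (3, -2, -1), (3, -2, 1), (3, -1, -2), (3, -1, 2), (3, 1,
  -2), (3, 1, 2), (3, 2, -1), (3, 2, 1)]),   (13, [(0, 2, -3), (0, 2, 3), (0, 3, -2), (0, 3, 2), (2, -3, 0), (2,
  0, -3), (2, 0, 3), (2, 3, 0), (3, -2, 0), (3, 0, -2), (3, 0, 2), (3, 2, 0)]),   (12, [(2, -2, -2), (2, -2, 2),
  (2, 2, -2), (2, 2, 2)]),   (11, [(1, -3, -1), (1, -3, 1), (1, -1, -3), (1, -1, 3), (1, 1, -3), (1, 1, 3), (1,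
  3, -1), (1, 3, 1), (3, -1, -1), (3, -1, 1), (3, 1, -1), (3, 1, 1)]),   (10, [(0, 1, -3), (0, 1, 3), (0, 3,
  -1), (0, 3, 1), (1, -3, 0), (1, 0, -3), (1, 0, 3), (1, 3, 0), (3, -1, 0), (3, 0, -1), (3, 0, 1), (3, 1, 0)]),
  (9, [(0, 0, 3), (0, 3, 0), (1, -2, -2), (1, -2, 2), (1, 2, -2), (1, 2, 2), (2, -2, -1), (2, -2, 1), (2, -1,
  -2), (2, -1, 2), (2, 1, -2), (2, 1, 2), (2, 2, -1), (2, 2, 1), (3, 0, 0)]),   (8, [(0, 2, -2), (0, 2, 2), (2,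
  -2, 0), (2, 0, -2), (2, 0, 2), (2, 2, 0)]),   (6, [(1, -2, -1), (1, -2, 1), (1, -1, -2), (1, -1, 2), (1, 1,
  -2), (1, 1, 2), (1, 2, -1), (1, 2, 1), (2, -1, -1), (2, -1, 1), (2, 1, -1), (2, 1, 1)]),   (5, [(0, 1, -2),
  (0, 1, 2), (0, 2, -1), (0, 2, 1), (1, -2, 0), (1, 0, -2), (1, 0, 2), (1, 2, 0), (2, -1, 0), (2, 0, -1), (2, 0,
  1), (2, 1, 0)]),   (4, [(0, 0, 2), (0, 2, 0), (2, 0, 0)]),   (3, [(1, -1, -1), (1, -1, 1), (1, 1, -1), (1, 1,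
  1)]),   (2, [(0, 1, -1), (0, 1, 1), (1, -1, 0), (1, 0, -1), (1, 0, 1), (1, 1, 0)]),   (1, [(0, 0, 1), (0, 1,
  0), (1, 0, 0)]),   (0, [(0, 0, 0)])]

/-- `q` or `-q` is a candidate -/
def has (q : V3) : Bool := cand4.any fun g => decide (g.1 = nrm q) && (g.2.any fun x => decide (x = q) || decide (x = ng q))

theorem has_all : (List.range 9).all (fun i => (List.range 9).all fun j => (List.range 9).all fun k =>
    has ((i : ℤ) - 4, (j : ℤ) - 4, (k : ℤ) - 4)) = true := by decide +kernel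

theorem entry_lt {x m : ℤ} (hm : m ≤ 24) (h : x * x ≤ m) : ∃ i < 9, x = (i : ℕ) - 4 := by
  have h1 : x ≤ 4 := by nlinarith
  have h2 : -4 ≤ x := by nlinarith
  exact ⟨(x + 4).toNat, by omega, by omega⟩

theorem cand4_mem {m : ℤ} (hm : m ≤ 24) (q : V3) (h1 : q.1 * q.1 ≤ m) (h2 : q.2.1 * q.2.1 ≤ m) (h3 : q.2.2 * q.2.2 ≤ m) :
    ∃ g ∈ cand4, g.1 = nrm q ∧ (q ∈ g.2 ∨ ng q ∈ g.2) := by
  obtain ⟨i, hi, e1⟩ := entry_lt hm h1
  obtain ⟨j, hj, e2⟩ := entry_lt hm h2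
  obtain ⟨k, hk, e3⟩ := entry_lt hm h3
  have h := has_all
  rw [List.all_eq_true] at h
  have h := List.all_eq_true.1 (h i (List.mem_range.2 hi)) j (List.mem_range.2 hj)
  have h := List.all_eq_true.1 h k (List.mem_range.2 hk)
  have hq : q = ((i : ℤ) - 4, (j : ℤ) - 4, (k : ℤ) - 4) := by
    rw [← e1, ← e2, ← e3]
  rw [← hq, has, List.any_eq_true] at h
  obtain ⟨g, hg, h⟩ := h
  rw [Bool.and_eq_true, decide_eq_true_eq, List.any_eq_true] at h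
  obtain ⟨h4, x, hx, h5⟩ := h
  rw [Bool.or_eq_true, decide_eq_true_eq, decide_eq_true_eq] at h5
  refine ⟨g, hg, h4, ?_⟩
  rcases h5 with rfl | rfl
  · exact Or.inl hx
  · exact Or.inr hx

/-- the search of the row Th -/
theorem th_search : search cand4 (fun l => !reach l (-2, -1, -1)) 5 54 ⟨17, 11, 12, 18, 12, 19⟩ [] = true := by
  decide +kernel

/-- **Row Th** : at least ten rows. -/
theorem th_seven {ι : Type*} (B : Finset ι) (q : ι → Fin 3 → ℤ)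
    (hG : ∀ i j : Fin 3, (∑ x ∈ B, q x i * q x j) = 7 * ((if i = j then 1 else 0) + 2))
    {x1 x2 x3 x4 : ι} (m1 : x1 ∈ B) (m2 : x2 ∈ B) (m3 : x3 ∈ B) (m4 : x4 ∈ B) (h23 : x2 ≠ x3)
    (h1 : q x1 = ![1, 0, 0]) (h2 : q x2 = ![1, 1, 1]) (h3 : q x3 = ![1, 1, 1]) (h4 : q x4 = ![-1, -1, 0])
    (a : ι → ℤ) (ha : ∀ x ∈ B, a x = 0 ∨ a x = 1 ∨ a x = -1) (ha0 : ∀ j : Fin 3, (∑ x ∈ B, a x * q x j) = 0)
    (a1 : a x1 = 1) (a2 : a x2 = 1) (a3 : a x3 = 0) (a4 : a x4 = 0) : 10 ≤ B.card := by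
  classical
  by_contra hcon
  have e12 : x1 ≠ x2 := by
    rintro rfl
    have := congrFun (h1.symm.trans h2) 1
    revert this
    decide
  have e13 : x1 ≠ x3 := by
    rintro rfl
    have := congrFun (h1.symm.trans h3) 1
    revert this
    decide
  have e14 : x1 ≠ x4 := by
    rintro rfl
    have := congrFun (h1.symm.trans h4) 1
    revert this
    decide
  have e24 : x2 ≠ x4 := by
    rintro rfl
    have := congrFun (h2.symm.trans h4) 1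
    revert this
    decide
  have e34 : x3 ≠ x4 := by
    rintro rfl
    have := congrFun (h3.symm.trans h4) 1
    revert this
    decide
  have hK : ({x1, x2, x3, x4} : Finset ι) ⊆ B := by
    intro x hx
    simp only [Finset.mem_insert, Finset.mem_singleton] at hx
    rcases hx with rfl | rfl | rfl | rfl <;> assumption
  have hsum : ∀ f : ι → ℤ, (∑ x ∈ ({x1, x2, x3, x4} : Finset ι), f x) = f x1 + (f x2 + (f x3 + f x4)) := by
    intro f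
    rw [Finset.sum_insert (by simp [e12, e13, e14]), Finset.sum_insert (by simp [h23, e24]),
      Finset.sum_insert (by simp [e34]), Finset.sum_singleton]
  have hsub : ∀ f : ι → ℤ, (∑ x ∈ B \ {x1, x2, x3, x4}, f x) = (∑ x ∈ B, f x) - (f x1 + (f x2 + (f x3 + f x4))) := by
    intro f
    rw [← hsum, ← Finset.sum_sdiff hK]
    ring
  have hcard : (B \ {x1, x2, x3, x4}).card ≤ 5 := by
    have h5 : ({x1, x2, x3, x4} : Finset ι).card = 4 := by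
      rw [Finset.card_insert_of_notMem (by simp [e12, e13, e14]), Finset.card_insert_of_notMem (by simp [h23, e24]),
        Finset.card_insert_of_notMem (by simp [e34]), Finset.card_singleton]
    rw [Finset.card_sdiff_of_subset hK, h5]
    omega
  refine glue q (C := cand4) (m := 24) (fun q => cand4_mem le_rfl q) (by norm_num) (by norm_num) (by norm_num)
    (by norm_num) th_search hcard ?_ a (fun x hx => ha x (Finset.mem_sdiff.1 hx).1) ?_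
  · intro i j
    rw [hsub, hG, h1, h2, h3, h4]
    fin_cases i <;> fin_cases j <;> simp
  · intro j
    rw [hsub, ha0, h1, h2, h3, h4, a1, a2, a3, a4]
    fin_cases j <;> simp

end Cfsg.Agent.H98.LB
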